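import Cfsg.Agent.SpThreeRegUnip.Closure
import Cfsg.Agent.Lib.ChevGen.SpGen

/-!
The symplectic group is generated by three conjugate regular unipotent elements.
-/

set_option autoImplicit false

namespace Cfsg.Agent.SpThreeRegUnip

open Matrix Cfsg.Agent.Symplectic

variable {n : ℕ} {F : Type*} [Field F]

theorem tv_comm {u v : Vec n F} (h : sympForm n F u v = 0) (a b : F) :
    Commute (tv u a) (tv v b) := by
  have e : tv u a * tv v b * (tv u a)⁻¹ = tv v b := by
    rw [conj_tv, tv_smul_of_orth _ (by rw [sympForm_swap, h, neg_zero])]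
  exact mul_inv_eq_iff_eq_mul.1 e

theorem sh_self_add {u v : Vec n F} (h : sympForm n F u v = 0) (a : F) :
    sh u (u + v) a = sh u v a * tv u (2 * a) := by
  refine eq_of_smul_eq fun x => ?_
  have h' : sympForm n F v u = 0 := by rw [sympForm_swap, h, neg_zero]
  have s : sympForm n F u (u + v) = 0 := by rw [sympForm_add_right, h, sympForm_self, add_zero]
  simp only [mul_smul, sh_smul h, sh_smul s, tv_smul, sympForm_add_left, sympForm_smul_left,
    sympForm_add_right, sympForm_self, h, h']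
  module

theorem comm_reg_of_three (hn : 3 ≤ n) (t : F) :
    ∃ k : Sp n F, k * reg * k⁻¹ * reg⁻¹ = tv (ee 0) t := by
  refine ⟨tv (ee 1) t * sh (ee 0) (ee 2) (-t), ?_⟩
  have hp : sympForm n F (ee 0) (ee 2) = 0 := form_ee_ee _ _
  have e : ∀ a b u : Sp n F, a * b * u * (a * b)⁻¹ * u⁻¹ =
      a * b * ((u * b⁻¹ * u⁻¹) * (u * a⁻¹ * u⁻¹)) := fun a b u => by group
  have hinv : (sh (ee 0) (ee 2) (-t) : Sp n F)⁻¹ = sh (ee 0) (ee 2) t :=
    inv_eq_of_mul_eq_one_right (by rw [← sh_add hp, neg_add_cancel, sh]; simp [tv_zero])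
  have e2 : (reg : Sp n F) • (ee 2 : Vec n F) = ee 2 - ee 1 + ee 0 := by
    have := reg_ee_add (F := F) (n := n) (i := 1) (by omega)
    rw [smul_add, reg_ee_one (by omega)] at this
    rw [eq_sub_of_add_eq this]; abel
  rw [e, hinv, tv_inv, conj_sh, conj_tv, reg_ee_zero, e2, reg_ee_one (by omega)]
  refine eq_of_smul_eq fun x => ?_
  have hq : sympForm n F (ee 0) (ee 2 - ee 1 + ee 0 : Vec n F) = 0 := by
    simp [sympForm_add_right, sympForm_sub_right]
  simp only [mul_smul, sh_smul hp, sh_smul hq, tv_smul, sympForm_add_left, sympForm_sub_left,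
    sympForm_smul_left, sympForm_add_right, sympForm_sub_right, sympForm_self, form_ee_ee]
  module

theorem comm_reg_of_odd (hn : 2 ≤ n) (h2 : (2 : F) ≠ 0) (t : F) :
    ∃ k : Sp n F, k * reg * k⁻¹ * reg⁻¹ = tv (ee 0) t := by
  refine ⟨sh (ee 0) (ee 1) (t / 2), ?_⟩
  have hp : sympForm n F (ee 0) (ee 1) = 0 := form_ee_ee _ _
  have e : ∀ a u : Sp n F, a * u * a⁻¹ * u⁻¹ = a * (u * a⁻¹ * u⁻¹) := fun a u => by group
  have hinv : (sh (ee 0) (ee 1) (t / 2) : Sp n F)⁻¹ = sh (ee 0) (ee 1) (-(t / 2)) :=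
    inv_eq_of_mul_eq_one_right (by rw [← sh_add hp, add_neg_cancel, sh]; simp [tv_zero])
  rw [e, hinv, conj_sh, reg_ee_zero, reg_ee_one (by omega)]
  refine eq_of_smul_eq fun x => ?_
  have hq : sympForm n F (ee 0) (ee 1 - ee 0 : Vec n F) = 0 := by
    simp [sympForm_sub_right]
  simp only [mul_smul, sh_smul hp, sh_smul hq, tv_smul, sympForm_add_left,
    sympForm_smul_left, sympForm_sub_left, sympForm_sub_right, sympForm_self, form_ee_ee]
  match_scalars <;> field_simp <;> ring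

theorem levi_ee_one_two : (levi : Sp 2 F) • (ee 1 : Vec 2 F) = ee 1 - ee 0 := by
  rw [← reg_ee]; exact reg_ee_one (by omega)

theorem comm_reg_of_two (h2 : (2 : F) = 0) (r : F) :
    ∃ k : Sp 2 F, k * reg * k⁻¹ * reg⁻¹ = tv (ee 0) (r ^ 2 + r) := by
  haveI : CharP F 2 := CharTwo.of_one_ne_zero_of_two_eq_zero one_ne_zero h2
  have hneg : ∀ c : F, -c = c := CharTwo.neg_eq
  have hnegv : ∀ v : Vec 2 F, -v = v := fun v => funext fun l => CharTwo.neg_eq (v l)
  refine ⟨tv (ee 1) r * sh (ee 0) (ff 1) r, ?_⟩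
  have hp : sympForm 2 F (ee 0) (ee 1) = 0 := form_ee_ee _ _
  have hE : sympForm 2 F (ee 0) (ff 1) = 0 := perp_succ 0
  have h01 : sympForm 2 F (ee 0) (ee 0 + ee 1 : Vec 2 F) = 0 := by simp [sympForm_add_right]
  have e : ∀ a b u : Sp 2 F, a * b * u * (a * b)⁻¹ * u⁻¹ =
      a * b * ((u * b⁻¹ * u⁻¹) * (u * a⁻¹ * u⁻¹)) := fun a b u => by group
  have hinv : (sh (ee 0) (ff 1) r : Sp 2 F)⁻¹ = sh (ee 0) (ff 1) r :=
    inv_eq_of_mul_eq_one_right (by rw [← sh_add hE, CharTwo.add_self_eq_zero, sh]; simp [tv_zero])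
  have e1 : (reg : Sp 2 F) • (ee 1 : Vec 2 F) = ee 0 + ee 1 := by
    rw [reg_ee_one (by omega), sub_eq_add_neg, hnegv, add_comm]
  have ef : (reg : Sp 2 F) • (ff 1 : Vec 2 F) = ff 1 + (ee 0 + ee 1) := by
    have := reg_ff_last (n := 2) (F := F) (by omega)
    rw [this, levi_ee_one_two, sub_eq_add_neg, hnegv, add_comm (ee 1) (ee 0)]
  rw [e, hinv, tv_inv, hneg, conj_sh, conj_tv, reg_ee_zero, e1, ef, sh_add_right hE h01,
    sh_self_add hp, h2, zero_mul, tv_zero, mul_one, tv_add_eq hp, sympForm_add_right,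
    form_ff_ee_ne (by omega), form_ff_ee (by omega : 1 < 2), zero_add, mul_one]
  have g : tv (ee 1) r * sh (ee 0) (ff 1) r *
      (sh (ee 0) (ff 1) r * sh (ee 0) (ee 1) r * tv (ee 0) (r ^ 2) *
        (sh (ee 0) (ee 1) r * (tv (ee 0) r * tv (ee 1) r))) =
      (tv (ee 1) r * sh (ee 0) (ee 1) r * tv (ee 0) (r ^ 2) *
        (sh (ee 0) (ee 1) r * (tv (ee 0) r * tv (ee 1) r)) : Sp 2 F) := by
    have : sh (ee 0) (ff 1) r * sh (ee 0) (ff 1) r = (1 : Sp 2 F) := by
      nth_rewrite 1 [← hinv]; exact inv_mul_cancel _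
    simp only [mul_assoc]
    rw [← mul_assoc (sh (ee 0) (ff 1) r) (sh (ee 0) (ff 1) r), this, one_mul]
  rw [g]
  have g2 : (tv (ee 1) r * sh (ee 0) (ee 1) r * tv (ee 0) (r ^ 2) *
      (sh (ee 0) (ee 1) r * (tv (ee 0) r * tv (ee 1) r)) : Sp 2 F) =
      tv (ee 1) (r + r) * sh (ee 0) (ee 1) (r + r) * tv (ee 0) (r ^ 2 + r) := by
    refine eq_of_smul_eq fun x => ?_
    simp only [mul_smul, sh_smul hp, tv_smul, sympForm_add_left,
      sympForm_smul_left, sympForm_self, form_ee_ee]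
    module
  rw [g2, CharTwo.add_self_eq_zero, tv_zero, one_mul, sh]
  simp [tv_zero]

/-- common part: three conjugates and what their closure contains -/
theorem start (hn : 0 < n) (a : Fˣ) {t : F} (ht : (a : F) ^ 2 * t = 1) (kb k1 : Sp n F)
    (hkb : ∀ i, kb • (ee i : Vec n F) = ee i) (hk1 : k1 * reg * k1⁻¹ * reg⁻¹ = tv (ee 0) t)
    {H : Subgroup (Sp n F)}
    (hH : H = Subgroup.closure ({reg, (weylJ * dil a * kb) * reg * (weylJ * dil a * kb)⁻¹,
      (weylJ * dil a * kb * k1) * reg * (weylJ * dil a * kb * k1)⁻¹} : Set (Sp n F))) :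
    Rat H ∧ dil a * kb * reg * kb⁻¹ * (dil a)⁻¹ ∈ H := by
  set g : Sp n F := weylJ * dil a * kb with hg
  have hu : (reg : Sp n F) ∈ H := by rw [hH]; exact Subgroup.subset_closure (by simp)
  have hu' : g * reg * g⁻¹ ∈ H := by rw [hH]; exact Subgroup.subset_closure (by simp)
  have hu'' : (g * k1) * reg * (g * k1)⁻¹ ∈ H := by rw [hH]; exact Subgroup.subset_closure (by simp)
  have ge : ∀ i, g • (ee i : Vec n F) = (-(a : F)) • ff i := fun i => by
    rw [hg, mul_smul, mul_smul, hkb, dil_ee, smul_comm (weylJ : Sp n F) (a : F), weylJ_ee, smul_neg,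
      neg_smul]
  have h0 : tv (ff 0) (1 : F) ∈ H := by
    have h1 := H.mul_mem hu'' (H.inv_mem hu')
    rw [show (g * k1) * reg * (g * k1)⁻¹ * (g * reg * g⁻¹)⁻¹ = g * (k1 * reg * k1⁻¹ * reg⁻¹) * g⁻¹
      by group, hk1, conj_tv, ge, tv_smul_vec, neg_sq, ht] at h1
    exact h1
  have hU : ∀ i, i + 1 < n → (g * reg * g⁻¹) • (ff (i + 1) + ff i : Vec n F) = ff (i + 1) := by
    intro i hi
    have hf : ∀ j, g⁻¹ • (ff j : Vec n F) = (-((a⁻¹ : Fˣ) : F)) • ee j := fun j => by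
      rw [inv_smul_eq_iff, smul_comm g, ge, smul_smul, neg_mul_neg, Units.inv_mul, one_smul]
    rw [mul_smul, mul_smul, smul_add g⁻¹, hf, hf, ← smul_add (-((a⁻¹ : Fˣ) : F)),
      smul_comm (reg : Sp n F), reg_ee_add hi, ← hf, smul_inv_smul]
  refine ⟨rat_of hn hu h0 hu' hU, ?_⟩
  have := conj_mem (H.inv_mem (rat_of hn hu h0 hu' hU).weylJ_mem) hu'
  rw [hg] at this
  convert this using 1
  group

theorem exists_three_of_par [Finite F] {H : Subgroup (Sp n F)} (R : Rat H) (hn : 2 ≤ n) {b : Fˣ}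
    (hgen : ∀ x, x ∈ Subgroup.zpowers b) (h : (b : F) ^ 2 ∈ par H) : H = ⊤ := by
  haveI := Fintype.ofFinite F
  refine R.eq_top fun c => ?_
  suffices par H = ⊤ by exact mem_par.1 (by rw [this]; trivial)
  rw [eq_top_iff, ← ChevGen.SpGen.addClosure_squares, AddSubgroup.closure_le]
  rintro _ ⟨x, rfl⟩
  by_cases hx : x = 0
  · simp [hx]
  obtain ⟨k, hk⟩ := (Submonoid.mem_powers_iff _ _).1
    (mem_powers_iff_mem_zpowers.2 (hgen (Units.mk0 x hx)))
  have := R.pow_mem_par (show 1 < n by omega) h k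
  have e : x = (b : F) ^ k := by rw [← Units.val_pow_eq_pow_val, hk, Units.val_mk0]
  show x ^ 2 ∈ par H
  rwa [e, ← pow_mul, mul_comm, pow_mul]

theorem main [Fintype F] (hn : 2 ≤ n) (h22 : ¬ (n = 2 ∧ Fintype.card F = 2)) :
    ∃ g h : Sp n F, Subgroup.closure ({reg, g * reg * g⁻¹, h * reg * h⁻¹} : Set (Sp n F)) = ⊤ := by
  classical
  obtain ⟨b, hb⟩ := IsCyclic.exists_generator (α := Fˣ)
  by_cases hs : n = 2 ∧ (2 : F) = 0
  · obtain ⟨rfl, h2⟩ := hs
    haveI : CharP F 2 := CharTwo.of_one_ne_zero_of_two_eq_zero one_ne_zero h2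
    have hneg : ∀ c : F, -c = c := CharTwo.neg_eq
    have hnegv : ∀ v : Vec 2 F, -v = v := fun v => funext fun l => CharTwo.neg_eq (v l)
    set β : F := (b : F) with hβ
    have ht0 : β ^ 2 + β ≠ 0 := by
      intro h
      have h1 : β * (β + 1) = 0 := by linear_combination h
      have hb1 : b = 1 := by
        refine Units.ext ?_
        have := (eq_neg_of_add_eq_zero_left ((mul_eq_zero.1 h1).resolve_left b.ne_zero))
        rw [hneg] at this; exact this
      have hone : ∀ x : Fˣ, x = 1 := fun x => by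
        have := hb x
        rw [hb1, Subgroup.zpowers_one_eq_bot] at this
        exact this
      refine h22 ⟨rfl, ?_⟩
      have hc : Fintype.card Fˣ = 1 := Fintype.card_eq_one_iff.2 ⟨1, hone⟩
      rw [Fintype.card_units] at hc
      omega
    obtain ⟨c, hc⟩ : ∃ c : F, c ^ 2 = (β ^ 2 + β)⁻¹ :=
      Finite.surjective_of_injective (frobenius_inj F 2) (β ^ 2 + β)⁻¹
    have hc0 : c ≠ 0 := fun h => by simp [h] at hc; exact ht0 hc.symm
    set μ : F := c ^ 2 with hμ
    have hμ0 : μ ≠ 0 := pow_ne_zero _ hc0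
    obtain ⟨k1, hk1⟩ := comm_reg_of_two h2 β
    set kb : Sp 2 F := tv (ee 1) ((μ + β) / μ)
    refine ⟨weylJ * dil (Units.mk0 c hc0) * kb, weylJ * dil (Units.mk0 c hc0) * kb * k1, ?_⟩
    obtain ⟨R, hM⟩ := start (by omega) (Units.mk0 c hc0) (by
      rw [Units.val_mk0, ← hμ, hc, inv_mul_cancel₀ ht0]) kb k1
      (fun i => tv_smul_of_orth _ (form_ee_ee _ _)) hk1 rfl
    set H := Subgroup.closure ({reg, weylJ * dil (Units.mk0 c hc0) * kb * reg *
      (weylJ * dil (Units.mk0 c hc0) * kb)⁻¹, weylJ * dil (Units.mk0 c hc0) * kb * k1 * reg *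
      (weylJ * dil (Units.mk0 c hc0) * kb * k1)⁻¹} : Set (Sp 2 F))
    set d : Sp 2 F := dil (Units.mk0 c hc0)
    rw [show d * kb * reg * kb⁻¹ * d⁻¹ = (d * kb * d⁻¹) * (d * reg * d⁻¹) * (d * kb * d⁻¹)⁻¹ by
      group, dil_conj_reg, conj_tv, dil_ee, Units.val_mk0, tv_smul_vec, ← hμ,
      mul_div_cancel₀ _ hμ0] at hM
    have hp : sympForm 2 F (ee 0) (ee 1) = 0 := form_ee_ee _ _
    have hl1 : (levi : Sp 2 F) • (ee 1 : Vec 2 F) = ee 0 + ee 1 := by
      rw [levi_ee_one_two, sub_eq_add_neg, hnegv, add_comm]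
    have hl2 : (levi : Sp 2 F) • (ee 0 + ee 1 : Vec 2 F) = ee 1 := by
      rw [add_comm, levi, lev_ee _ 0 (by omega) (by omega)]
    have hP : tv (ee 1) (μ + β) * tv (ee 0 + ee 1) β ∈ H := by
      have := H.mul_mem hM (H.inv_mem R.levi_mem)
      rw [show tv (ee 1) (μ + β) * (levi * tv (ee (2 - 1)) μ) * (tv (ee 1) (μ + β))⁻¹ * levi⁻¹ =
        (tv (ee 1) (μ + β) * (levi * (tv (ee 1) μ * (tv (ee 1) (μ + β))⁻¹) * levi⁻¹) : Sp 2 F) by
          simp only [show (2 : ℕ) - 1 = 1 from rfl]; group, tv_inv, tv_mul_tv, conj_tv, hl1,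
        hneg, ← add_assoc, CharTwo.add_self_eq_zero, zero_add] at this
      exact this
    have hQ : tv (ee 0 + ee 1) (μ + β) * tv (ee 1) β ∈ H := by
      have := conj_mem R.levi_mem hP
      rwa [show ∀ a b c : Sp 2 F, c * (a * b) * c⁻¹ = (c * a * c⁻¹) * (c * b * c⁻¹) from
        fun a b c => by group, conj_tv, conj_tv, hl1, hl2] at this
    have horth : sympForm 2 F (ee 1) (ee 0 + ee 1 : Vec 2 F) = 0 := by simp [sympForm_add_right]
    have hz : ∀ {s : F}, tv (ee 1) s * tv (ee 0 + ee 1) s ∈ H → s ∈ par H := by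
      intro s hs
      refine R.char_two_mem_par (by omega) h2 ?_
      rwa [tv_add_eq hp, ← mul_assoc (tv (ee 1) s), (show Commute (tv (ee 1) s)
          (sh (ee 0) (ee 1) s) from by rw [sh_comm hp]; exact tv_sh_comm (form_ee_ee _ _) s s).eq,
        mul_assoc, ← mul_assoc (tv (ee 1) s), (tv_comm (form_ee_ee _ _) s s).eq, mul_assoc,
        tv_mul_tv, CharTwo.add_self_eq_zero, tv_zero, mul_one] at hs
    have hμm : μ ∈ par H := by
      refine hz ?_
      have := H.mul_mem hP hQ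
      rw [mul_assoc, ← mul_assoc (tv (ee 0 + ee 1) β), tv_mul_tv,
        ← (tv_comm horth β (β + (μ + β))).eq, ← mul_assoc, tv_mul_tv] at this
      rwa [show μ + β + β = μ by rw [add_assoc, CharTwo.add_self_eq_zero, add_zero],
        show β + (μ + β) = μ by rw [add_left_comm, CharTwo.add_self_eq_zero, add_zero]] at this
    have hβm : β ∈ par H := by
      refine hz ?_
      rw [← tv_mul_tv, mul_assoc] at hP
      exact (H.mul_mem_cancel_left ((R.tv_ee_mem_iff (by omega) μ).2 hμm)).1 hP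
    exact exists_three_of_par R le_rfl hb (R.pow_mem_par (by omega) hβm 2)
  · have hk : ∀ t : F, ∃ k : Sp n F, k * reg * k⁻¹ * reg⁻¹ = tv (ee 0) t := by
      intro t
      by_cases h2 : (2 : F) = 0
      · exact comm_reg_of_three (by rcases eq_or_ne n 2 with h | h; exact absurd ⟨h, h2⟩ hs; omega) t
      · exact comm_reg_of_odd hn h2 t
    obtain ⟨k1, hk1⟩ := hk ((b : F) ^ 2)⁻¹
    refine ⟨weylJ * dil b * 1, weylJ * dil b * 1 * k1, ?_⟩
    obtain ⟨R, hM⟩ := start (by omega) b (mul_inv_cancel₀ (pow_ne_zero _ b.ne_zero)) 1 k1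
      (fun i => one_smul _ _) hk1 rfl
    simp only [inv_one, mul_one] at hM R
    rw [dil_conj_reg] at hM
    simp only [mul_one]
    exact exists_three_of_par R hn hb
      ((R.tv_ee_mem_iff (by omega) _).1 ((Subgroup.mul_mem_cancel_left _ R.levi_mem).1 hM))

end Cfsg.Agent.SpThreeRegUnip
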