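import Cfsg.Agent.SpThreeRegUnip.Defs

/-!
Rational root elements in a group containing the regular unipotent element, one long root
element and a suitable conjugate; and generation from root elements.
-/

set_option autoImplicit false

namespace Cfsg.Agent.SpThreeRegUnip

open Matrix Cfsg.Agent.Symplectic

variable {n : ℕ} {F : Type*} [Field F] {H : Subgroup (Sp n F)}

/-- rational root elements lie in `H` -/
structure Rat (H : Subgroup (Sp n F)) : Prop where
  he : ∀ i, tv (ee i) (1 : F) ∈ H
  hf : ∀ i, tv (ff i) (1 : F) ∈ H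
  hx : ∀ k, (shUp k : Sp n F) ∈ H

theorem conj_mem {g x : Sp n F} (hg : g ∈ H) (hx : x ∈ H) : g * x * g⁻¹ ∈ H :=
  H.mul_mem (H.mul_mem hg hx) (H.inv_mem hg)

theorem conj_mem_iff {g x : Sp n F} (hg : g ∈ H) : g * x * g⁻¹ ∈ H ↔ x ∈ H :=
  ⟨fun h => by
    have := conj_mem (H.inv_mem hg) h
    rwa [inv_inv, ← mul_assoc, ← mul_assoc, inv_mul_cancel, one_mul, inv_mul_cancel_right] at this,
   conj_mem hg⟩

theorem tv_smul_mem_iff {g : Sp n F} (hg : g ∈ H) (w : Vec n F) (c : F) :
    tv (g • w) c ∈ H ↔ tv w c ∈ H := by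
  rw [← conj_tv, conj_mem_iff hg]

theorem mem_step {a x : Vec n F} (ha : tv a (1 : F) ∈ H) (hx : tv x (1 : F) ∈ H)
    (h : sympForm n F a x = 1 ∨ sympForm n F a x = -1) :
    tv (x + a) (1 : F) ∈ H ∧ tv (x - a) (1 : F) ∈ H := by
  have ha' : tv a (-1 : F) ∈ H := by rw [← tv_inv]; exact H.inv_mem ha
  have k1 := (tv_smul_mem_iff ha x 1).2 hx
  have k2 := (tv_smul_mem_iff ha' x 1).2 hx
  rw [tv_smul, sympForm_swap x a] at k1 k2
  rcases h with h | h <;> rw [h] at k1 k2 <;> norm_num at k1 k2
  · exact ⟨k2, by rwa [← sub_eq_add_neg] at k1⟩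
  · exact ⟨k1, by rwa [← sub_eq_add_neg] at k2⟩

theorem rat_of (hn : 0 < n) (hu : (reg : Sp n F) ∈ H) (h0 : tv (ff 0) (1 : F) ∈ H)
    {u' : Sp n F} (hu' : u' ∈ H)
    (hU : ∀ i, i + 1 < n → u' • (ff (i + 1) + ff i : Vec n F) = ff (i + 1)) : Rat H := by
  have hR : ∀ {g : Sp n F}, g ∈ H → ∀ {w : Vec n F}, tv w (1 : F) ∈ H →
      tv (g • w) (1 : F) ∈ H := fun hg _ hw => (tv_smul_mem_iff hg _ _).2 hw
  have hF : ∀ i, i < n → tv (ff i) (1 : F) ∈ H := by
    intro i
    induction i with
    | zero => intro _; exact h0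
    | succ i ih =>
      intro hi
      have h1 := hR hu (ih (by omega))
      rw [reg_ff hi, add_comm] at h1
      have h2 := hR hu' h1
      rwa [hU i hi] at h2
  have hsum : ∀ i, i + 1 < n → tv (ff i + ff (i + 1)) (1 : F) ∈ H := fun i hi => by
    have := hR hu (hF i (by omega))
    rwa [reg_ff hi] at this
  have htop : tv (ee (n - 1)) (1 : F) ∈ H := by
    have h1 := hR hu (hF (n - 1) (by omega))
    rw [reg_ff_last hn] at h1
    have h2 := (mem_step (hF (n - 1) (by omega)) h1 (Or.inl (by
      rw [sympForm_add_right, sympForm_self, zero_add, form_ff_levi hn]))).2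
    rw [add_sub_cancel_left, ← reg_ee] at h2
    exact (tv_smul_mem_iff hu _ _).1 h2
  -- descending along the basis
  have down : ∀ i, i + 1 < n → tv (ee (i + 1)) (1 : F) ∈ H →
      tv (ee i) (1 : F) ∈ H ∧ tv (ee i + ff (i + 1)) (1 : F) ∈ H := by
    intro i hi he
    rw [← reg_ee_add hi, tv_smul_mem_iff hu] at he
    have he' : tv (ee (i + 1)) (1 : F) ∈ H := by
      have := hR hu he
      rwa [reg_ee_add hi] at this
    have h1 := (mem_step (hF (i + 1) hi) he (Or.inl (by
      rw [sympForm_add_right, form_ff_ee hi, form_ff_ee_ne (by omega), add_zero]))).1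
    have h2 := (mem_step he' h1 (Or.inr (by
      simp [sympForm_add_right, form_ee_ff hi]))).2
    rw [show ee (i + 1) + ee i + ff (i + 1) - ee (i + 1) = (ee i + ff (i + 1) : Vec n F) by abel] at h2
    have h3 := (mem_step (hsum i hi) h2 (Or.inl (by
      simp [sympForm_add_right, sympForm_add_left, form_ff_ee (show i < n by omega),
        form_ff_ee_ne (show i + 1 ≠ i by omega)]))).2
    rw [show ee i + ff (i + 1) - (ff i + ff (i + 1)) = (ee i - ff i : Vec n F) by abel] at h3
    have h4 := (mem_step (hF i (by omega)) h3 (Or.inl (by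
      simp [sympForm_sub_right, form_ff_ee (show i < n by omega)]))).1
    rw [sub_add_cancel] at h4
    exact ⟨h4, h2⟩
  have hE' : ∀ d, d < n → tv (ee (n - 1 - d)) (1 : F) ∈ H := by
    intro d
    induction d with
    | zero => intro _; exact htop
    | succ d ih =>
      intro hd
      have := ih (by omega)
      rw [show n - 1 - d = (n - 1 - (d + 1)) + 1 by omega] at this
      exact (down _ (by omega) this).1
  have hE : ∀ i, tv (ee i) (1 : F) ∈ H := by
    intro i
    by_cases h : i < n
    · have := hE' (n - 1 - i) (by omega)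
      rwa [show n - 1 - (n - 1 - i) = i by omega] at this
    · rw [ee_of_le (Nat.le_of_not_lt h), tv_zero_vec]; exact H.one_mem
  have hF' : ∀ i, tv (ff i) (1 : F) ∈ H := by
    intro i
    by_cases h : i < n
    · exact hF i h
    · rw [ff_of_le (Nat.le_of_not_lt h), tv_zero_vec]; exact H.one_mem
  refine ⟨hE, hF', fun k => ?_⟩
  by_cases h : k + 1 < n
  · rw [shUp, sh, ← tv_inv, ← tv_inv]
    exact H.mul_mem (H.mul_mem (down k h (hE _)).2 (H.inv_mem (hE k))) (H.inv_mem (hF' _))
  · rw [shUp, sh, ff_of_le (by omega), add_zero, tv_zero_vec, mul_one, tv_mul_tv, add_neg_cancel,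
      tv_zero]
    exact H.one_mem

namespace Rat

variable (R : Rat H)
include R

theorem weyl_mem (k : ℕ) : (weyl k : Sp n F) ∈ H := H.mul_mem (H.mul_mem (R.he k) (R.hf k)) (R.he k)

theorem weylJ_mem : (weylJ : Sp n F) ∈ H := by
  have : ∀ k, (jp k : Sp n F) ∈ H := fun k => by
    induction k with
    | zero => exact H.one_mem
    | succ k ih => exact H.mul_mem ih (R.weyl_mem k)
  exact this n

theorem levi_mem : (levi : Sp n F) ∈ H := by
  have : ∀ k, (lev k : Sp n F) ∈ H := fun k => by
    induction k with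
    | zero => exact H.one_mem
    | succ k ih => exact H.mul_mem ih (R.hx k)
  exact this _

theorem shDown_mem (k : ℕ) : (shDown k : Sp n F) ∈ H := by
  have := conj_mem R.weylJ_mem (R.hx k)
  have hp : sympForm n F (ff k) (ee (k + 1)) = 0 := form_ff_ee_ne (by omega)
  rwa [shUp, conj_sh, weylJ_ee, weylJ_ff, sh_neg_left hp, sh_comm hp, ← shDown] at this

theorem tv_ff_mem_iff (k : ℕ) (c : F) : tv (ff k) c ∈ H ↔ tv (ee k) c ∈ H := by
  have := tv_smul_mem_iff (R.weylJ_mem) (ee k) c
  rwa [weylJ_ee, tv_neg_vec] at this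

theorem tv_ee_mem_iff {k : ℕ} (hk : k < n) (c : F) : tv (ee k) c ∈ H ↔ tv (ee 0) c ∈ H := by
  induction k with
  | zero => rfl
  | succ k ih =>
    rw [← ih (by omega)]
    have := tv_smul_mem_iff (H.mul_mem (R.hx k) (R.shDown_mem k)) (ee k) c
    rwa [mul_smul, shDown_ee_self (by omega), smul_add, shUp_ee k k (by omega), shUp_ee_self hk,
      add_sub_cancel] at this

/-- all long root elements on the first coordinate give everything -/
theorem eq_top (hA : ∀ c : F, tv (ee 0) c ∈ H) : H = ⊤ := by
  have hall : ∀ k, k < n → ∀ c : F, tv (ee k) c ∈ H ∧ tv (ff k) c ∈ H := fun k hk c =>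
    ⟨(R.tv_ee_mem_iff hk c).2 (hA c), (R.tv_ff_mem_iff k c).2 ((R.tv_ee_mem_iff hk c).2 (hA c))⟩
  -- one hyperbolic plane
  have pair : ∀ i : Fin n, ∀ a b c : F, tv (a • eI i + b • fI i : Vec n F) c ∈ H := by
    intro i a b c
    have he : (ee i.val : Vec n F) = eI i := ee_of_lt i.isLt
    have hf : (ff i.val : Vec n F) = fI i := ff_of_lt i.isLt
    by_cases ha : a = 0
    · subst ha
      rw [zero_smul, zero_add, tv_smul_vec, ← hf]
      exact (hall _ i.isLt _).2
    · have hg : tv (fI i) (-(b / a) : F) ∈ H := hf ▸ (hall _ i.isLt _).2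
      have h1 := (tv_smul_mem_iff hg (eI i) (a ^ 2 * c)).2 (he ▸ (hall _ i.isLt _).1)
      rw [tv_smul, sympForm_eI_fI, mul_neg, mul_one, neg_neg, ← tv_smul_vec, smul_add, smul_smul,
        mul_div_cancel₀ _ ha] at h1
      exact h1
  have hplane : ∀ i : Fin n, (tvGroup (Finset.univ.erase i) : Subgroup (Sp n F)) ≤ H := by
    intro i
    rw [tvGroup, Subgroup.closure_le]
    rintro _ ⟨w, hw, c, rfl⟩
    have e : w = w (Sum.inl i) • eI i + w (Sum.inr i) • fI i := by
      funext l
      rcases l with l | l <;> by_cases h : l = i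
      · subst h; simp [eI, fI]
      · simp [eI, fI, h, (hw l (by simp [h])).1]
      · subst h; simp [eI, fI]
      · simp [eI, fI, h, (hw l (by simp [h])).2]
    rw [e]
    exact pair _ _ _ _
  have main : ∀ k, k ≤ n →
      (tvGroup (Finset.univ.filter fun i : Fin n => k ≤ i.val) : Subgroup (Sp n F)) ≤ H := by
    intro k
    induction k with
    | zero =>
      intro _
      rw [tvGroup, Subgroup.closure_le]
      rintro _ ⟨w, hw, c, rfl⟩
      have : w = 0 := by
        funext l
        rcases l with l | l <;> simp [(hw l (by simp)).1, (hw l (by simp)).2]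
      rw [this, tv_zero_vec]
      exact H.one_mem
    | succ k ih =>
      intro hk
      set S := Finset.univ.filter fun i : Fin n => k ≤ i.val with hS
      set S' := Finset.univ.filter fun i : Fin n => k + 1 ≤ i.val
      have hG := ih (by omega)
      set j : Fin n := ⟨k, by omega⟩
      rw [tvGroup, Subgroup.closure_le]
      rintro _ ⟨w, hw, c, rfl⟩
      set z : Vec n F := w (Sum.inl j) • eI j + w (Sum.inr j) • fI j with hz
      set y : Vec n F := w - z with hy
      have hyS : y ∈ supp S := by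
        intro l hl
        by_cases h : l = j
        · subst h; simp [hy, hz, eI, fI]
        · have hl' : l ∈ S' := by
            simp only [S, S', Finset.mem_filter, Finset.mem_univ, true_and] at hl ⊢
            have : l.val ≠ k := fun e => h (Fin.ext e)
            omega
          simp [hy, hz, eI, fI, h, (hw l hl').1, (hw l hl').2]
      have hzS : z ∈ supp (Finset.univ.erase j) :=
        add_mem (Submodule.smul_mem _ _ (eI_mem_supp (by simp)))
          (Submodule.smul_mem _ _ (fI_mem_supp (by simp)))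
      have hw' : w = y + z := by rw [hy, sub_add_cancel]
      rw [hw']
      by_cases hy0 : y = 0
      · rw [hy0, zero_add]; exact hplane j (tv_mem_tvGroup hzS c)
      by_cases hz0 : z = 0
      · rw [hz0, add_zero]; exact hG (tv_mem_tvGroup hyS c)
      obtain ⟨k0, rfl⟩ : ∃ k0, k = k0 + 1 := by
        refine ⟨k - 1, ?_⟩
        by_contra hne
        have : k = 0 := by omega
        refine hy0 (funext fun l => ?_)
        rcases l with l | l <;> simp [(hyS l (by simp [S, this])).1, (hyS l (by simp [S, this])).2]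
      set i : Fin n := ⟨k0, by omega⟩
      have hij : i ≠ j := by simp [i, j, Fin.ext_iff]
      have hiS : i ∉ S := by simp [S, i]
      have hjS : j ∈ S := by simp [S, j]
      obtain ⟨g, hg, eg⟩ := exists_move hyS (eI_mem_supp (F := F) hiS) hy0 (eI_ne_zero i)
      obtain ⟨g', hg', eg'⟩ := exists_move hzS (eI_mem_supp (F := F) (S := Finset.univ.erase j)
        (i := j) (by simp)) hz0 (eI_ne_zero j)
      have gz : g • z = z := by
        obtain ⟨a, b⟩ := mem_fixPairs.1 (tvGroup_le_fixPairs S hg) j hjS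
        rw [hz, smul_add, smul_comm g, smul_comm g, a, b]
      have g'e : g' • (eI i : Vec n F) = eI i :=
        (mem_fixPairs.1 (tvGroup_le_fixPairs _ hg') i (by simp [hij])).1
      rw [SetLike.mem_coe, ← tv_smul_mem_iff (H.mul_mem (hplane j hg') (hG hg)), smul_add, mul_smul, mul_smul, eg, gz,
        g'e, eg']
      have e1 : (ee k0 : Vec n F) = eI i := ee_of_lt i.isLt
      have e2 : (ee (k0 + 1) : Vec n F) = eI j := ee_of_lt j.isLt
      have h1 := (tv_smul_mem_iff (R.shDown_mem k0) (ee k0) c).2 (hall k0 i.isLt c).1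
      rwa [shDown_ee_self i.isLt, e1, e2] at h1
  rw [eq_top_iff, ← tvGroup_empty]
  have := main n le_rfl
  rwa [show (Finset.univ.filter fun i : Fin n => n ≤ i.val) = ∅ by
    ext i; simp [i.isLt]] at this

end Rat

end Cfsg.Agent.SpThreeRegUnip
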