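import Cfsg.Agent.SpThreeRegUnip.Chain

/-!
The parameters of the long root elements inside a group with all rational root elements.
-/

set_option autoImplicit false

namespace Cfsg.Agent.SpThreeRegUnip

open Matrix Cfsg.Agent.Symplectic

variable {n : ℕ} {F : Type*} [Field F] {H : Subgroup (Sp n F)}

/-- parameters of long root elements in `H` -/
def par (H : Subgroup (Sp n F)) : AddSubgroup F where
  carrier := {c | tv (ee 0) c ∈ H}
  zero_mem' := by simp
  add_mem' ha hb := by rw [Set.mem_ofPred_eq, ← tv_mul_tv]; exact H.mul_mem ha hb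
  neg_mem' ha := by rw [Set.mem_ofPred_eq, ← tv_inv]; exact H.inv_mem ha

theorem mem_par {c : F} : c ∈ par H ↔ tv (ee 0) c ∈ H := Iff.rfl

theorem tv_add_eq {u v : Vec n F} (h : sympForm n F u v = 0) (c : F) :
    tv (u + v) c = sh u v c * (tv u c * tv v c) := by
  refine eq_of_smul_eq fun x => ?_
  have h' : sympForm n F v u = 0 := by rw [sympForm_swap, h, neg_zero]
  simp only [mul_smul, sh_smul h, tv_smul, sympForm_add_left, sympForm_smul_left, sympForm_add_right,
    sympForm_self, h, h']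
  module

theorem sh_add_right {u v v' : Vec n F} (h : sympForm n F u v = 0) (h' : sympForm n F u v' = 0)
    (a : F) : sh u (v + v') a = sh u v a * sh u v' a * tv u (a ^ 2 * sympForm n F v v') := by
  refine eq_of_smul_eq fun x => ?_
  have k : sympForm n F v u = 0 := by rw [sympForm_swap, h, neg_zero]
  have k' : sympForm n F v' u = 0 := by rw [sympForm_swap, h', neg_zero]
  have s : sympForm n F u (v + v') = 0 := by rw [sympForm_add_right, h, h', add_zero]
  simp only [mul_smul, sh_smul h, sh_smul h', sh_smul s, tv_smul, sympForm_add_left,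
    sympForm_smul_left, sympForm_add_right, sympForm_self, h, h', k, k', sympForm_swap v' v]
  module

theorem tv_sh_comm {u v : Vec n F} (h : sympForm n F u v = 0) (a b : F) :
    Commute (tv u a) (sh u v b) := by
  have e : tv u a * sh u v b * (tv u a)⁻¹ = sh u v b := by
    rw [conj_sh, tv_smul_of_orth _ (sympForm_self u),
      tv_smul_of_orth _ (show sympForm n F v u = 0 by rw [sympForm_swap, h, neg_zero])]
  exact mul_inv_eq_iff_eq_mul.1 e

namespace Rat

variable (R : Rat H)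
include R

theorem one_mem_par : (1 : F) ∈ par H := R.he 0

theorem sh_e_mem (hn : 1 < n) {c : F} (hc : c ∈ par H) : sh (ee 0) (ee 1) c ∈ H := by
  have h1 : tv (ee 1) c ∈ H := (R.tv_ee_mem_iff hn c).2 hc
  have h2 : tv (ee 0 + ee 1) c ∈ H := by
    have := (tv_smul_mem_iff (R.shDown_mem 0) (ee 0) c).2 hc
    rwa [shDown_ee_self (by omega)] at this
  rw [tv_add_eq (form_ee_ee _ _)] at h2
  exact (H.mul_mem_cancel_right (H.mul_mem hc h1)).1 h2

theorem sh_f_mem (hn : 1 < n) {c : F} (hc : c ∈ par H) : sh (ee 0) (ff 1) c ∈ H := by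
  have := conj_mem (R.weyl_mem 1) (R.sh_e_mem hn ((par H).neg_mem hc))
  rwa [conj_sh, weyl_ee (by omega), weyl_ee_self hn, sh_neg_right (perp_succ 0), neg_neg] at this

theorem step (hn : 1 < n) {r x : F} (hr : r ∈ par H) (hx : x ∈ par H) (hrx : r * x ∈ par H) :
    r ^ 2 * x ∈ par H := by
  have hg := R.sh_e_mem hn hr
  have hfx : tv (ff 1) x ∈ H := (R.tv_ff_mem_iff 1 x).2 ((R.tv_ee_mem_iff hn x).2 hx)
  have h1 := (tv_smul_mem_iff hg (ff 1) x).2 hfx
  have e : (sh (ee 0) (ee 1) r : Sp n F) • (ff 1 : Vec n F) = r • ee 0 + ff 1 := by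
    rw [sh_smul (form_ee_ee _ _), form_ff_ee hn, form_ff_ee_ne (by omega)]
    simp [add_comm]
  have hp : sympForm n F (r • ee 0) (ff 1) = 0 := by
    rw [sympForm_smul_left, perp_succ 0, mul_zero]
  rw [e, tv_add_eq hp, tv_smul_vec] at h1
  have h2 : sh (r • ee 0) (ff 1) x ∈ H := by
    have := R.sh_f_mem hn hrx
    have e' := sh_scale (perp_succ (n := n) (F := F) 0) r 1 x
    rw [one_smul, mul_one] at e'
    rwa [e']
  exact (H.mul_mem_cancel_right hfx).1 ((H.mul_mem_cancel_left h2).1 h1)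

theorem pow_mem_par (hn : 1 < n) {a : F} (ha : a ∈ par H) : ∀ k : ℕ, a ^ k ∈ par H := by
  suffices h : ∀ k : ℕ, a ^ k ∈ par H ∧ a ^ (k + 1) ∈ par H from fun k => (h k).1
  intro k
  induction k with
  | zero => simp [R.one_mem_par, ha]
  | succ k ih =>
    refine ⟨ih.2, ?_⟩
    have := R.step hn ha ih.1 (by rw [← pow_succ']; exact ih.2)
    rwa [← pow_add, add_comm] at this

theorem sq_mul_mem_par (hn : 1 < n) {a x : F} (ha0 : a ≠ 0) (ha : a ∈ par H) (hai : a⁻¹ ∈ par H)
    (hx : x ∈ par H) : a ^ 2 * x ∈ par H := by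
  have hn0 : 0 < n := by omega
  have hf : ∀ {c : F}, c ∈ par H → tv (ff 0) c ∈ H := fun hc => (R.tv_ff_mem_iff 0 _).2 hc
  have hg : tv (ee 0) a * tv (ff 0) a⁻¹ * tv (ee 0) a ∈ H :=
    H.mul_mem (H.mul_mem ha (hf hai)) ha
  have h1 := (tv_smul_mem_iff hg (ff 0) x).2 (hf hx)
  have e : ((tv (ee 0) a * tv (ff 0) a⁻¹ * tv (ee 0) a) : Sp n F) • (ff 0 : Vec n F) = a • ee 0 := by
    simp [mul_smul, tv_smul, form_ff_ee hn0, form_ee_ff hn0, sympForm_add_left, sympForm_smul_left,
      ha0]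
  rwa [e, tv_smul_vec] at h1

theorem char_two_mem_par [Finite F] (hn : 1 < n) (h2 : (2 : F) = 0) {s : F}
    (hz : sh (ee 0) (ee 1) s * tv (ee 0) s ∈ H) : s ∈ par H := by
  haveI : CharP F 2 := CharTwo.of_one_ne_zero_of_two_eq_zero one_ne_zero h2
  have hneg : ∀ c : F, -c = c := CharTwo.neg_eq
  have hnegv : ∀ v : Vec n F, -v = v := fun v => funext fun l => CharTwo.neg_eq (v l)
  have hn0 : 0 < n := by omega
  have hE := perp_succ (n := n) (F := F) 0
  rw [zero_add] at hE
  have hp : sympForm n F (ee 0) (ee 1) = 0 := form_ee_ee _ _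
  have cE := fun a b => tv_sh_comm (n := n) hp a b (F := F)
  have cF := fun a b => tv_sh_comm (n := n) hE a b (F := F)
  set Y : Sp n F := sh (ee 0) (ff 1) s * tv (ee 0) (s ^ 2) with hYdef
  -- first commutator
  have hY : Y ∈ H := by
    have h1 := conj_mem (R.hf 1) hz
    rw [show ∀ a b c : Sp n F, c * (a * b) * c⁻¹ = (c * a * c⁻¹) * (c * b * c⁻¹) from
      fun a b c => by group, conj_sh, conj_tv, tv_smul_of_orth _ hE, tv_smul, form_ee_ff hn, one_mul,
      neg_one_smul, hnegv, sh_add_right hp hE, form_ee_ff hn, hneg] at h1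
    simp only [mul_one] at h1
    have h3 := H.mul_mem (H.inv_mem hz) h1
    rw [show (sh (ee 0) (ee 1) s * tv (ee 0) s)⁻¹ *
        (sh (ee 0) (ee 1) s * sh (ee 0) (ff 1) s * tv (ee 0) (s ^ 2) * tv (ee 0) s) =
        (tv (ee 0) s)⁻¹ * (sh (ee 0) (ff 1) s * tv (ee 0) (s ^ 2) * tv (ee 0) s) by group,
      ← hYdef] at h3
    have hc : Commute (tv (ee 0) s) Y := (cF _ _).mul_right (by
      rw [Commute, SemiconjBy, tv_mul_tv, tv_mul_tv, add_comm])
    rwa [← hc.eq, inv_mul_cancel_left] at h3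
  -- the Artin–Schreier value
  have hgam : s ^ 2 + s ∈ par H := by
    have h1 := conj_mem (R.weyl_mem 1) hY
    rw [hYdef, show ∀ a b c : Sp n F, c * (a * b) * c⁻¹ = (c * a * c⁻¹) * (c * b * c⁻¹) from
      fun a b c => by group, conj_sh, conj_tv, weyl_ee (by omega), weyl_ff_self hn] at h1
    have h3 := H.mul_mem (H.inv_mem hz) h1
    rw [_root_.mul_inv_rev, mul_assoc, inv_mul_cancel_left, tv_inv, tv_mul_tv, hneg, add_comm] at h3
    exact h3
  -- a skew vector
  set sw : Sp n F := shUp 0 * shDown 0 * shUp 0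
  have hsw : sw ∈ H := H.mul_mem (H.mul_mem (R.hx 0) (R.shDown_mem 0)) (R.hx 0)
  have hd0 : (shDown 0 : Sp n F) • (ff 1 : Vec n F) = ff 1 + ff 0 := by
    rw [shDown, sh_smul (perp_succ' 0)]
    simp [form_ff_ee hn, hnegv]
  have hd1 : (shDown 0 : Sp n F) • (ff 0 : Vec n F) = ff 0 := by
    rw [shDown, sh_smul (perp_succ' 0)]
    simp [form_ff_ee_ne (n := n) (F := F) (show (0 : ℕ) ≠ 1 by omega)]
  have hvv : ∀ v : Vec n F, v + v = 0 := fun v => funext fun l => CharTwo.add_self_eq_zero (v l)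
  have sw1 : sw • (ee 1 : Vec n F) = ee 0 := by
    simp only [sw, mul_smul]
    rw [shUp_ee_self hn, smul_sub, shDown_ee 0 1 (by omega), shDown_ee_self hn0, sub_eq_add_neg,
      hnegv, show ee 1 + (ee 0 + ee 1) = (ee 0 : Vec n F) + (ee 1 + ee 1) by abel, hvv, add_zero,
      shUp_ee 0 0 (by omega)]
  have sw0 : sw • (ee 0 : Vec n F) = ee 1 := by
    simp only [sw, mul_smul]
    rw [shUp_ee 0 0 (by omega), shDown_ee_self hn0, smul_add, shUp_ee_self hn,
      shUp_ee 0 0 (by omega), add_sub_cancel]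
  have swf : sw • (ff 0 : Vec n F) = ff 1 := by
    simp only [sw, mul_smul]
    rw [shUp_ff_self hn0, smul_add, hd1, hd0,
      show ff 0 + (ff 1 + ff 0) = (ff 1 : Vec n F) + (ff 0 + ff 0) by abel, hvv, add_zero,
      shUp_ff 0 1 (by omega)]
  have ha : tv (ff 0 + s • ee 0 + s • ee 1) (1 : F) ∈ H := by
    have := (tv_smul_mem_iff hz (ff 0) 1).2 (R.hf 0)
    simpa [mul_smul, tv_smul, sh_smul hp, sympForm_add_left, sympForm_smul_left, form_ff_ee hn0,
      form_ff_ee_ne (n := n) (F := F) (show (0 : ℕ) ≠ 1 by omega)] using this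
  have hx : tv (ee 0 + s • ee 1) (1 : F) ∈ H := by
    have h1 := (tv_smul_mem_iff hz (ff 1) 1).2 (R.hf 1)
    simp only [mul_smul, tv_smul, sh_smul hp, sympForm_add_left, sympForm_smul_left,
      form_ff_ee hn, form_ff_ee_ne (n := n) (F := F) (show (1 : ℕ) ≠ 0 by omega), form_ee_ee,
      mul_zero, zero_smul, add_zero, mul_one] at h1
    rw [← tv_smul_mem_iff (R.weyl_mem 1), smul_add, weyl_ff_self hn, smul_comm (weyl 1 : Sp n F) s,
      weyl_ee (by omega), ← tv_smul_mem_iff hsw, smul_add, sw1, smul_comm sw s, sw0] at h1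
    exact h1
  have hv : tv (ff 1 + (s + 1) • ee 1) (1 : F) ∈ H := by
    have h1 := (mem_step hx ha (Or.inr (by
      simp [sympForm_add_left, sympForm_add_right, sympForm_smul_left, sympForm_smul_right,
        form_ee_ff hn0, form_ee_ff_ne (n := n) (F := F) (show (1 : ℕ) ≠ 0 by omega)]))).2
    rw [show ff 0 + s • ee 0 + s • ee 1 - (ee 0 + s • ee 1) = (ff 0 : Vec n F) + (s • ee 0 - ee 0)
        by abel, show s • ee 0 - ee 0 = ((s + 1) • ee 0 : Vec n F) by
          rw [sub_eq_add_neg, hnegv, add_smul, one_smul],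
      ← tv_smul_mem_iff hsw, smul_add, swf, smul_comm sw (s + 1), sw0] at h1
    exact h1
  -- second commutator
  have hs3 : s ^ 3 + s ^ 2 ∈ par H := by
    set v : Vec n F := ff 1 + (s + 1) • ee 1
    have hv0 : sympForm n F (ee 0) v = 0 := by
      simp [v, sympForm_add_right, sympForm_smul_right, hE]
    have h1 := conj_mem hv (R.hx 0)
    have e1 : tv v (1 : F) • (ff 1 : Vec n F) = (s + 1) ^ 2 • ee 1 + s • ff 1 := by
      rw [tv_smul, show sympForm n F (ff 1) v = s + 1 by
        simp [v, sympForm_add_right, sympForm_smul_right, form_ff_ee hn]]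
      simp only [v]
      match_scalars
      · linear_combination h2
      · ring
    rw [shUp, zero_add, conj_sh, tv_smul_of_orth _ hv0, e1,
      sh_add_right (by simp [sympForm_smul_right]) (by rw [sympForm_smul_right, hE, mul_zero]),
      sympForm_smul_left, sympForm_smul_right, form_ee_ff hn, hneg] at h1
    simp only [one_pow, one_mul, mul_one] at h1
    have e2 : sh (ee 0) ((s + 1) ^ 2 • ee 1) (1 : F) = (sh (ee 0) (ee 1) ((s + 1) ^ 2) : Sp n F) := by
      simpa using sh_scale hp 1 ((s + 1) ^ 2) (1 : F)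
    have e3 : sh (ee 0) (s • ff 1) (1 : F) = (sh (ee 0) (ff 1) s : Sp n F) := by
      simpa using sh_scale hE 1 s (1 : F)
    rw [e2, e3] at h1
    have h3 := H.mul_mem h1 (H.inv_mem hY)
    rw [hYdef, _root_.mul_inv_rev, tv_inv, hneg, mul_assoc _ (tv (ee 0) ((s + 1) ^ 2 * s)),
      ← mul_assoc (tv (ee 0) ((s + 1) ^ 2 * s)), tv_mul_tv, ← mul_assoc,
      mul_assoc (sh (ee 0) (ee 1) _), ← (cF _ _).eq, ← mul_assoc,
      mul_inv_cancel_right] at h3
    have e4 : (s + 1) ^ 2 = (1 + (s ^ 2 + s)) + s := by linear_combination h2 * 0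
    nth_rewrite 1 [e4] at h3
    rw [sh_add hp, mul_assoc] at h3
    have h5 := (H.mul_mem_cancel_left
      (R.sh_e_mem hn ((par H).add_mem R.one_mem_par hgam))).1 h3
    have h6 := H.mul_mem (H.inv_mem hz) h5
    rw [_root_.mul_inv_rev, mul_assoc, inv_mul_cancel_left, tv_inv, tv_mul_tv, hneg] at h6
    convert mem_par.2 h6 using 1
    linear_combination (-(s + s ^ 2)) * h2
  by_cases h0 : s ^ 2 + s = 0
  · rcases eq_or_ne s 0 with rfl | hs
    · exact (par H).zero_mem
    · have : s * (s + 1) = 0 := by linear_combination h0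
      rw [(eq_neg_of_add_eq_zero_left ((mul_eq_zero.1 this).resolve_left hs)), hneg]
      exact R.one_mem_par
  · classical
    haveI := Fintype.ofFinite F
    set g := s ^ 2 + s
    have hq : Fintype.card F - 1 ≠ 0 := by have := Fintype.one_lt_card (α := F); omega
    obtain ⟨c, hc⟩ : ∃ c : F, c ^ 2 = g⁻¹ :=
      Finite.surjective_of_injective (frobenius_inj F 2) g⁻¹
    -- `c` is a power of `g`
    have hc0 : c ≠ 0 := fun h => by simp [h] at hc; exact h0 hc.symm
    have hpow : ∀ x : F, x ≠ 0 → x ^ 2 = g⁻¹ → ∃ k : ℕ, x = g ^ k := by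
      intro x hx hxg
      have hfer := FiniteField.pow_card_sub_one_eq_one x hx
      obtain ⟨m, hm⟩ : ∃ m, Fintype.card F = 2 * m := by
        obtain ⟨k, -, hk⟩ := FiniteField.card F 2
        exact ⟨2 ^ ((k : ℕ) - 1), by
          rw [hk, ← pow_succ', Nat.sub_add_cancel k.pos]⟩
      refine ⟨m - 1, ?_⟩
      have hg : g = (x ^ 2)⁻¹ := by rw [hxg, inv_inv]
      rw [hg, inv_pow, ← pow_mul]
      refine eq_inv_of_mul_eq_one_left ?_
      rw [← pow_succ', ← hfer]
      congr 1; omega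
    obtain ⟨k, hk⟩ := hpow c hc0 hc
    have hcg : c⁻¹ = g ^ (k + 1) * 1 := by
      have : c * c * g = 1 := by rw [← sq, hc, inv_mul_cancel₀ h0]
      rw [mul_one, inv_eq_of_mul_eq_one_right (b := g ^ (k + 1))]
      rw [pow_succ, ← hk, ← mul_assoc, this]
    have hmem := R.sq_mul_mem_par hn hc0 (by rw [hk]; exact R.pow_mem_par hn hgam k)
      (by rw [hcg, mul_one]; exact R.pow_mem_par hn hgam _) hs3
    rwa [hc, show s ^ 3 + s ^ 2 = g * s by ring, inv_mul_cancel_left₀ h0] at hmem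

end Rat

end Cfsg.Agent.SpThreeRegUnip
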