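import Cfsg.Agent.Lib.Symplectic.Perfect

/-!
A regular unipotent element of the symplectic group and the elements used to conjugate it.
-/

set_option autoImplicit false

namespace Cfsg.Agent.SpThreeRegUnip

open Matrix Cfsg.Agent.Symplectic

variable {n : ℕ} {F : Type*} [Field F]

theorem conj_sh (g : Sp n F) (u v : Vec n F) (a : F) :
    g * sh u v a * g⁻¹ = sh (g • u) (g • v) a := by
  rw [sh, sh, ← smul_add, ← conj_tv, ← conj_tv, ← conj_tv]
  group

theorem sh_add {u v : Vec n F} (h : sympForm n F u v = 0) (a b : F) :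
    sh u v (a + b) = sh u v a * sh u v b := by
  refine eq_of_smul_eq fun x => ?_
  have h' : sympForm n F v u = 0 := by rw [sympForm_swap, h, neg_zero]
  simp only [mul_smul, sh_smul h, sympForm_add_left, sympForm_smul_left, sympForm_self, h, h']
  module

theorem sh_scale {u v : Vec n F} (h : sympForm n F u v = 0) (c d a : F) :
    sh (c • u) (d • v) a = sh u v (c * d * a) := by
  refine eq_of_smul_eq fun x => ?_
  have h' : sympForm n F (c • u) (d • v) = 0 := by
    simp [sympForm_smul_left, sympForm_smul_right, h]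
  simp only [sh_smul h, sh_smul h', sympForm_smul_right]
  module

/-- `e k`, zero outside the range -/
def ee (k : ℕ) : Vec n F := if h : k < n then eI ⟨k, h⟩ else 0

/-- `f k`, zero outside the range -/
def ff (k : ℕ) : Vec n F := if h : k < n then fI ⟨k, h⟩ else 0

theorem ee_of_lt {k : ℕ} (h : k < n) : (ee k : Vec n F) = eI ⟨k, h⟩ := dif_pos h
theorem ff_of_lt {k : ℕ} (h : k < n) : (ff k : Vec n F) = fI ⟨k, h⟩ := dif_pos h
theorem ee_of_le {k : ℕ} (h : n ≤ k) : (ee k : Vec n F) = 0 := dif_neg (by omega)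
theorem ff_of_le {k : ℕ} (h : n ≤ k) : (ff k : Vec n F) = 0 := dif_neg (by omega)

@[simp] theorem form_ee_ee (i j : ℕ) : sympForm n F (ee i) (ee j) = 0 := by
  unfold ee; split_ifs <;> simp

@[simp] theorem form_ff_ff (i j : ℕ) : sympForm n F (ff i) (ff j) = 0 := by
  unfold ff; split_ifs <;> simp

theorem form_ff_ee {i : ℕ} (h : i < n) : sympForm n F (ff i) (ee i) = 1 := by
  rw [ee_of_lt h, ff_of_lt h, sympForm_fI_eI]

theorem form_ee_ff {i : ℕ} (h : i < n) : sympForm n F (ee i) (ff i) = -1 := by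
  rw [ee_of_lt h, ff_of_lt h, sympForm_eI_fI]

theorem form_ee_ff_ne {i j : ℕ} (h : i ≠ j) : sympForm n F (ee i) (ff j) = 0 := by
  unfold ee ff
  split_ifs <;> simp [sympForm_eI_fI_of_ne, h]

theorem form_ff_ee_ne {i j : ℕ} (h : i ≠ j) : sympForm n F (ff i) (ee j) = 0 := by
  rw [sympForm_swap, form_ee_ff_ne h.symm, neg_zero]

theorem perp_succ (k : ℕ) : sympForm n F (ee k) (ff (k + 1)) = 0 := form_ee_ff_ne (by omega)

theorem perp_succ' (k : ℕ) : sympForm n F (ee (k + 1)) (ff k) = 0 := form_ee_ff_ne (by omega)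

theorem tv_zero_vec (c : F) : tv (0 : Vec n F) c = 1 := eq_of_smul_eq fun x => by simp [tv_smul]

theorem tv_neg_vec (w : Vec n F) (c : F) : tv (-w) c = tv w c := by
  simpa using tv_smul_vec w (-1) c

theorem sh_comm {u v : Vec n F} (h : sympForm n F u v = 0) (a : F) : sh u v a = sh v u a := by
  refine eq_of_smul_eq fun x => ?_
  rw [sh_smul h, sh_smul (by rw [sympForm_swap, h, neg_zero])]
  module

theorem sh_neg_left {u v : Vec n F} (h : sympForm n F u v = 0) (a : F) :
    sh (-u) v a = sh u v (-a) := by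
  simpa using sh_scale h (-1) 1 a

theorem sh_neg_right {u v : Vec n F} (h : sympForm n F u v = 0) (a : F) :
    sh u (-v) a = sh u v (-a) := by
  simpa using sh_scale h 1 (-1) a

/-- the shear `f k ↦ f k + f (k+1)`, `e (k+1) ↦ e (k+1) - e k` -/
def shUp (k : ℕ) : Sp n F := sh (ee k) (ff (k + 1)) 1

/-- the shear `e k ↦ e k + e (k+1)` -/
def shDown (k : ℕ) : Sp n F := sh (ee (k + 1)) (ff k) (-1)

theorem shUp_ee (k i : ℕ) (h : i ≠ k + 1) : (shUp k : Sp n F) • (ee i : Vec n F) = ee i := by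
  simp [shUp, sh_smul (perp_succ k), form_ee_ff_ne h]

theorem shUp_ff (k i : ℕ) (h : i ≠ k) : (shUp k : Sp n F) • (ff i : Vec n F) = ff i := by
  simp [shUp, sh_smul (perp_succ k), form_ff_ee_ne h]

theorem shUp_ee_self {k : ℕ} (h : k + 1 < n) :
    (shUp k : Sp n F) • (ee (k + 1) : Vec n F) = ee (k + 1) - ee k := by
  simp [shUp, sh_smul (perp_succ k), form_ee_ff h]
  abel

theorem shUp_ff_self {k : ℕ} (h : k < n) :
    (shUp k : Sp n F) • (ff k : Vec n F) = ff k + ff (k + 1) := by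
  simp [shUp, sh_smul (perp_succ k), form_ff_ee h]

theorem shDown_ee_self {k : ℕ} (h : k < n) :
    (shDown k : Sp n F) • (ee k : Vec n F) = ee k + ee (k + 1) := by
  simp [shDown, sh_smul (perp_succ' k), form_ee_ff h]

theorem shDown_ee (k i : ℕ) (h : i ≠ k) : (shDown k : Sp n F) • (ee i : Vec n F) = ee i := by
  simp [shDown, sh_smul (perp_succ' k), form_ee_ff_ne h]

/-- partial products of shears -/
def lev : ℕ → Sp n F
  | 0 => 1
  | k + 1 => lev k * shUp k

theorem lev_ee_fix (k : ℕ) : ∀ i, k < i ∨ i = 0 → (lev k : Sp n F) • (ee i : Vec n F) = ee i := by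
  induction k with
  | zero => intro i _; exact one_smul _ _
  | succ k ih =>
    intro i hi
    rw [lev, mul_smul, shUp_ee k i (by omega), ih i (by omega)]

theorem lev_ff_fix (k : ℕ) : ∀ i, k ≤ i → (lev k : Sp n F) • (ff i : Vec n F) = ff i := by
  induction k with
  | zero => intro i _; exact one_smul _ _
  | succ k ih =>
    intro i hi
    rw [lev, mul_smul, shUp_ff k i (by omega), ih i (by omega)]

theorem lev_ff (k : ℕ) : ∀ i, i < k → i < n →
    (lev k : Sp n F) • (ff i : Vec n F) = ff i + ff (i + 1) := by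
  induction k with
  | zero => intro i h; omega
  | succ k ih =>
    intro i hi hn
    rw [lev, mul_smul]
    rcases Nat.lt_succ_iff_lt_or_eq.1 hi with h | rfl
    · rw [shUp_ff k i (by omega), ih i h hn]
    · rw [shUp_ff_self hn, smul_add, lev_ff_fix i i le_rfl, lev_ff_fix i (i + 1) (by omega)]

theorem lev_ee (k : ℕ) : ∀ i, i < k → i + 1 < n →
    (lev k : Sp n F) • (ee (i + 1) + ee i : Vec n F) = ee (i + 1) := by
  induction k with
  | zero => intro i h; omega
  | succ k ih =>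
    intro i hi hn
    rw [lev, mul_smul, smul_add]
    rcases Nat.lt_succ_iff_lt_or_eq.1 hi with h | rfl
    · rw [shUp_ee k _ (by omega), shUp_ee k _ (by omega), ih i h hn]
    · rw [shUp_ee_self hn, shUp_ee i i (by omega), sub_add_cancel, lev_ee_fix i (i + 1) (by omega)]

/-- the Levi part -/
def levi : Sp n F := lev (n - 1)

/-- the regular unipotent element -/
def reg : Sp n F := levi * tv (ee (n - 1)) 1

theorem reg_ee (i : ℕ) : (reg : Sp n F) • (ee i : Vec n F) = (levi : Sp n F) • ee i := by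
  rw [reg, mul_smul, tv_smul_of_orth _ (form_ee_ee _ _)]

theorem reg_ee_zero : (reg : Sp n F) • (ee 0 : Vec n F) = ee 0 := by
  rw [reg_ee, levi, lev_ee_fix _ _ (Or.inr rfl)]

theorem reg_ee_add {i : ℕ} (h : i + 1 < n) :
    (reg : Sp n F) • (ee (i + 1) + ee i : Vec n F) = ee (i + 1) := by
  rw [smul_add, reg_ee, reg_ee, ← smul_add, levi, lev_ee _ i (by omega) h]

theorem reg_ee_one (h : 1 < n) : (reg : Sp n F) • (ee 1 : Vec n F) = ee 1 - ee 0 := by
  have := reg_ee_add (F := F) (n := n) (i := 0) h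
  rw [smul_add, reg_ee_zero] at this
  exact eq_sub_of_add_eq this

theorem reg_ff {i : ℕ} (h : i + 1 < n) :
    (reg : Sp n F) • (ff i : Vec n F) = ff i + ff (i + 1) := by
  rw [reg, mul_smul, tv_smul_of_orth _ (form_ff_ee_ne (by omega)), levi,
    lev_ff _ i (by omega) (by omega)]

theorem reg_ff_last (hn : 0 < n) :
    (reg : Sp n F) • (ff (n - 1) : Vec n F) = ff (n - 1) + (levi : Sp n F) • ee (n - 1) := by
  rw [reg, mul_smul, tv_smul, form_ff_ee (by omega), one_mul, one_smul, smul_add, levi,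
    lev_ff_fix _ _ le_rfl]

theorem form_ff_levi (hn : 0 < n) :
    sympForm n F (ff (n - 1)) ((levi : Sp n F) • ee (n - 1)) = 1 := by
  have := sympForm_smul_smul (levi : Sp n F) (ff (n - 1)) (ee (n - 1))
  rw [form_ff_ee (by omega), levi, lev_ff_fix _ _ le_rfl] at this
  exact this

/-! ### regularity -/

/-- `reg - 1` as a matrix -/
def regNil : Matrix (Fin n ⊕ Fin n) (Fin n ⊕ Fin n) F :=
  ((reg : Sp n F) : Matrix (Fin n ⊕ Fin n) (Fin n ⊕ Fin n) F) - 1

theorem regNil_mulVec (x : Vec n F) : regNil *ᵥ x = (reg : Sp n F) • x - x := by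
  rw [regNil, Matrix.sub_mulVec, Matrix.one_mulVec, smul_eq]

theorem regNil_succ (k : ℕ) (x : Vec n F) :
    (regNil : Matrix _ _ F) ^ (k + 1) *ᵥ x = regNil ^ k *ᵥ (regNil *ᵥ x) := by
  rw [Matrix.mulVec_mulVec, pow_succ]

theorem regNil_mono {a b : ℕ} (hab : a ≤ b) {x : Vec n F}
    (h : (regNil : Matrix _ _ F) ^ a *ᵥ x = 0) : (regNil : Matrix _ _ F) ^ b *ᵥ x = 0 := by
  obtain ⟨c, rfl⟩ := Nat.exists_eq_add_of_le hab
  rw [add_comm, pow_add, ← Matrix.mulVec_mulVec, h, Matrix.mulVec_zero]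

theorem regNil_ee (i : ℕ) : i < n → (regNil : Matrix _ _ F) ^ (i + 1) *ᵥ (ee i : Vec n F) = 0 ∧
    (regNil : Matrix _ _ F) ^ i *ᵥ (ee i : Vec n F) = (-1 : F) ^ i • ee 0 := by
  induction i with
  | zero => intro _; simp [regNil_mulVec, reg_ee_zero]
  | succ i ih =>
    intro h
    obtain ⟨h1, h2⟩ := ih (by omega)
    have e : regNil *ᵥ (ee (i + 1) : Vec n F) = -(ee i + regNil *ᵥ ee i) := by
      have := reg_ee_add (F := F) h
      rw [smul_add] at this
      rw [regNil_mulVec, regNil_mulVec, eq_sub_of_add_eq this]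
      abel
    have h3 : (regNil : Matrix _ _ F) ^ (i + 1) *ᵥ (regNil *ᵥ (ee i : Vec n F)) = 0 := by
      rw [← regNil_succ]; exact regNil_mono (Nat.le_succ _) h1
    constructor
    · rw [regNil_succ, e, Matrix.mulVec_neg, Matrix.mulVec_add, h1, h3, add_zero, neg_zero]
    · rw [regNil_succ, e, Matrix.mulVec_neg, Matrix.mulVec_add, h2, ← regNil_succ, h1, add_zero,
        pow_succ, mul_neg, mul_one, neg_smul]

theorem regNil_levi (hn : 0 < n) :
    (regNil : Matrix _ _ F) ^ n *ᵥ ((levi : Sp n F) • (ee (n - 1) : Vec n F)) = 0 ∧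
    (regNil : Matrix _ _ F) ^ (n - 1) *ᵥ ((levi : Sp n F) • (ee (n - 1) : Vec n F))
      = (-1 : F) ^ (n - 1) • ee 0 := by
  obtain ⟨h1, h2⟩ := regNil_ee (F := F) (n - 1) (show n - 1 < n by omega)
  rw [show n - 1 + 1 = n by omega] at h1
  have e : (levi : Sp n F) • (ee (n - 1) : Vec n F) = ee (n - 1) + regNil *ᵥ ee (n - 1) := by
    rw [regNil_mulVec, reg_ee]; abel
  have h3 : (regNil : Matrix _ _ F) ^ (n - 1 + 1) *ᵥ (ee (n - 1) : Vec n F) = 0 := by
    rwa [show n - 1 + 1 = n by omega]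
  constructor
  · rw [e, Matrix.mulVec_add, h1, ← regNil_succ, regNil_mono (Nat.le_succ _) h1, add_zero]
  · rw [e, Matrix.mulVec_add, h2, ← regNil_succ, h3, add_zero]

theorem regNil_ff_chain : ∀ d i : ℕ, i + d < n →
    (regNil : Matrix _ _ F) ^ d *ᵥ (ff i : Vec n F) = ff (i + d) := by
  intro d
  induction d with
  | zero => intro i _; simp
  | succ d ih =>
    intro i h
    rw [regNil_succ, regNil_mulVec, reg_ff (by omega), add_sub_cancel_left, ih (i + 1) (by omega)]
    congr 1; omega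

theorem regNil_isNilpotent : IsNilpotent (regNil : Matrix (Fin n ⊕ Fin n) (Fin n ⊕ Fin n) F) := by
  refine ⟨2 * n, Matrix.ext_of_mulVec_single fun j => ?_⟩
  rw [Matrix.zero_mulVec]
  rcases j with i | i
  · have := (regNil_ee (F := F) i.val i.isLt).1
    rw [ee_of_lt i.isLt] at this
    exact regNil_mono (by omega) this
  · have hn : 0 < n := i.pos
    have h1 : (regNil : Matrix _ _ F) ^ (n + 1) *ᵥ (ff (n - 1) : Vec n F) = 0 := by
      rw [regNil_succ, regNil_mulVec, reg_ff_last hn, add_sub_cancel_left, (regNil_levi hn).1]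
    have h2 : (regNil : Matrix _ _ F) ^ (n + 1 + (n - 1 - i.val)) *ᵥ (ff i.val : Vec n F) = 0 := by
      rw [pow_add, ← Matrix.mulVec_mulVec, regNil_ff_chain _ _ (by omega),
        show i.val + (n - 1 - i.val) = n - 1 by omega, h1]
    rw [ff_of_lt i.isLt] at h2
    exact regNil_mono (by omega) h2

theorem regNil_pow_ne_zero (hn : 0 < n) :
    (regNil : Matrix (Fin n ⊕ Fin n) (Fin n ⊕ Fin n) F) ^ (2 * n - 1) ≠ 0 := by
  intro h0
  have h1 : (regNil : Matrix _ _ F) ^ (2 * n - 1) *ᵥ (ff 0 : Vec n F) = (-1 : F) ^ (n - 1) • ee 0 := by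
    rw [show 2 * n - 1 = (n - 1 + 1) + (n - 1) by omega, pow_add, ← Matrix.mulVec_mulVec,
      regNil_ff_chain _ _ (by omega), zero_add, regNil_succ, regNil_mulVec, reg_ff_last hn,
      add_sub_cancel_left, (regNil_levi hn).2]
  rw [h0, Matrix.zero_mulVec] at h1
  rcases smul_eq_zero.1 h1.symm with h | h
  · simp at h
  · exact eI_ne_zero (F := F) (⟨0, hn⟩ : Fin n) (by rwa [← ee_of_lt hn])

/-! ### conjugators -/

/-- the Weyl element of the pair `k` -/
def weyl (k : ℕ) : Sp n F := tv (ee k) 1 * tv (ff k) 1 * tv (ee k) 1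

theorem weyl_ee_self {k : ℕ} (h : k < n) : (weyl k : Sp n F) • (ee k : Vec n F) = -ff k := by
  simp [weyl, mul_smul, tv_smul, form_ee_ff h, form_ff_ee h, sympForm_sub_left, sympForm_add_left,
    sympForm_smul_left]

theorem weyl_ff_self {k : ℕ} (h : k < n) : (weyl k : Sp n F) • (ff k : Vec n F) = ee k := by
  simp [weyl, mul_smul, tv_smul, form_ee_ff h, form_ff_ee h, sympForm_sub_left, sympForm_add_left,
    sympForm_smul_left]

theorem weyl_ee {k i : ℕ} (h : i ≠ k) : (weyl k : Sp n F) • (ee i : Vec n F) = ee i := by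
  simp [weyl, mul_smul, tv_smul, form_ee_ff_ne h]

theorem weyl_ff {k i : ℕ} (h : i ≠ k) : (weyl k : Sp n F) • (ff i : Vec n F) = ff i := by
  simp [weyl, mul_smul, tv_smul, form_ff_ee_ne h]

/-- partial products of Weyl elements -/
def jp : ℕ → Sp n F
  | 0 => 1
  | k + 1 => jp k * weyl k

theorem jp_spec (k : ℕ) : ∀ i, i < n →
    (i < k → (jp k : Sp n F) • (ee i : Vec n F) = -ff i ∧ (jp k : Sp n F) • (ff i : Vec n F) = ee i) ∧
    (k ≤ i → (jp k : Sp n F) • (ee i : Vec n F) = ee i ∧ (jp k : Sp n F) • (ff i : Vec n F) = ff i) := by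
  induction k with
  | zero => intro i _; exact ⟨by omega, fun _ => ⟨one_smul _ _, one_smul _ _⟩⟩
  | succ k ih =>
    intro i hn
    obtain ⟨h1, h2⟩ := ih i hn
    refine ⟨fun hi => ?_, fun hi => ?_⟩
    · rcases Nat.lt_succ_iff_lt_or_eq.1 hi with h | rfl
      · rw [jp, mul_smul, mul_smul, weyl_ee (by omega), weyl_ff (by omega)]
        exact h1 h
      · rw [jp, mul_smul, mul_smul, weyl_ee_self hn, weyl_ff_self hn, smul_neg, (h2 le_rfl).1,
          (h2 le_rfl).2]
        exact ⟨rfl, rfl⟩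
    · rw [jp, mul_smul, mul_smul, weyl_ee (by omega), weyl_ff (by omega)]
      exact h2 (by omega)

/-- the product of all Weyl elements of pairs -/
def weylJ : Sp n F := jp n

theorem weylJ_ee (i : ℕ) : (weylJ : Sp n F) • (ee i : Vec n F) = -ff i := by
  by_cases h : i < n
  · exact ((jp_spec n i h).1 h).1
  · simp [ee_of_le (F := F) (Nat.le_of_not_lt h), ff_of_le (F := F) (Nat.le_of_not_lt h)]

theorem weylJ_ff (i : ℕ) : (weylJ : Sp n F) • (ff i : Vec n F) = ee i := by
  by_cases h : i < n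
  · exact ((jp_spec n i h).1 h).2
  · simp [ee_of_le (F := F) (Nat.le_of_not_lt h), ff_of_le (F := F) (Nat.le_of_not_lt h)]

/-- scaling of the two halves -/
def dil (a : Fˣ) : Sp n F :=
  ⟨Matrix.diagonal (Sum.elim (fun _ => (a : F)) (fun _ => ((a⁻¹ : Fˣ) : F))), by
    rw [mem_iff_form]
    intro u v
    simp only [sympForm_eq_sum, Matrix.mulVec_diagonal, Sum.elim_inl, Sum.elim_inr]
    refine Finset.sum_congr rfl fun j _ => ?_
    simp only [Units.val_inv_eq_inv_val]
    field_simp⟩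

theorem dil_ee (a : Fˣ) (i : ℕ) : (dil a : Sp n F) • (ee i : Vec n F) = (a : F) • ee i := by
  funext l
  rw [smul_eq]
  unfold ee
  rcases l with l | l <;> split_ifs with h <;> simp [dil, Matrix.mulVec_diagonal, eI]

theorem dil_ff (a : Fˣ) (i : ℕ) :
    (dil a : Sp n F) • (ff i : Vec n F) = ((a⁻¹ : Fˣ) : F) • ff i := by
  funext l
  rw [smul_eq]
  unfold ff
  rcases l with l | l <;> split_ifs with h <;> simp [dil, Matrix.mulVec_diagonal, fI]

theorem dil_conj_shUp (a : Fˣ) (k : ℕ) : dil a * shUp k * (dil a)⁻¹ = (shUp k : Sp n F) := by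
  rw [shUp, conj_sh, dil_ee, dil_ff, sh_scale (perp_succ k), Units.mul_inv, one_mul]

theorem dil_conj_levi (a : Fˣ) : dil a * levi * (dil a)⁻¹ = (levi : Sp n F) := by
  have : ∀ k, dil a * lev k * (dil a)⁻¹ = (lev k : Sp n F) := by
    intro k
    induction k with
    | zero => simp [lev]
    | succ k ih =>
      rw [lev]
      calc dil a * (lev k * shUp k) * (dil a)⁻¹
          = (dil a * lev k * (dil a)⁻¹) * (dil a * shUp k * (dil a)⁻¹) := by group
        _ = lev k * shUp k := by rw [ih, dil_conj_shUp]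
  exact this _

theorem dil_conj_reg (a : Fˣ) :
    dil a * reg * (dil a)⁻¹ = (levi : Sp n F) * tv (ee (n - 1)) ((a : F) ^ 2) := by
  calc dil a * reg * (dil a)⁻¹
      = (dil a * levi * (dil a)⁻¹) * (dil a * tv (ee (n - 1)) 1 * (dil a)⁻¹) := by
        rw [reg]; group
    _ = _ := by rw [dil_conj_levi, conj_tv, dil_ee, tv_smul_vec, mul_one]

end Cfsg.Agent.SpThreeRegUnip
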